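import Cfsg.Prelude.Def_PLocal
import Cfsg.Prelude.Def_LocalEven
import Cfsg.Agent.H60.Qd
import Mathlib

/-!
Groups in which the `p`-elements normalizing a non-trivial `p`-subgroup are closed under products.
The property passes to sections and fails for `Qd(p)`.
-/

set_option autoImplicit false

namespace Cfsg.Agent.H58

/-- The `p`-elements normalizing a non-trivial `p`-subgroup are closed under products. -/
def LocallyClosed (p : ℕ) (G : Type*) [Group G] : Prop :=
  ∀ R : Subgroup G, IsPGroup p R → R ≠ ⊥ →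
    ∀ a ∈ Subgroup.normalizer (R : Set G), ∀ b ∈ Subgroup.normalizer (R : Set G),
      (∃ k : ℕ, a ^ p ^ k = 1) → (∃ k : ℕ, b ^ p ^ k = 1) → ∃ k : ℕ, (a * b) ^ p ^ k = 1

theorem LocallyClosed.subgroup {p : ℕ} {G : Type*} [Group G] (h : LocallyClosed p G)
    (K : Subgroup G) : LocallyClosed p K := by
  intro R hR hne a ha b hb ⟨i, hi⟩ ⟨j, hj⟩
  have hn : ∀ x : K, x ∈ Subgroup.normalizer (R : Set K) →
      (x : G) ∈ Subgroup.normalizer ((R.map K.subtype : Subgroup G) : Set G) := by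
    intro x hx
    exact Subgroup.le_normalizer_map K.subtype ⟨x, hx, rfl⟩
  obtain ⟨k, hk⟩ := h (R.map K.subtype) (hR.map _)
    (fun h0 => hne ((Subgroup.map_eq_bot_iff_of_injective R K.subtype_injective).1 h0))
    a (hn a ha) b (hn b hb)
    ⟨i, by rw [← SubgroupClass.coe_pow, hi, OneMemClass.coe_one]⟩
    ⟨j, by rw [← SubgroupClass.coe_pow, hj, OneMemClass.coe_one]⟩
  exact ⟨k, Subtype.ext (by rw [SubgroupClass.coe_pow, Subgroup.coe_mul, hk, OneMemClass.coe_one])⟩

theorem LocallyClosed.of_surjective {p : ℕ} [Fact p.Prime] {G H : Type*} [Group G] [Group H]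
    [Finite G] (f : G →* H) (hf : Function.Surjective f) (h : LocallyClosed p G) :
    LocallyClosed p H := by
  intro R hR hne a ha b hb hap hbp
  have hFH : Finite H := Finite.of_surjective f hf
  obtain ⟨S⟩ : Nonempty (Sylow p (R.comap f)) := inferInstance
  set P : Subgroup G := (S : Subgroup (R.comap f)).map (R.comap f).subtype with hP
  have hPp : IsPGroup p P := S.isPGroup'.map _
  let f' : (R.comap f) →* R := (f.comp (R.comap f).subtype).codRestrict R (fun x => x.2)
  have hf' : Function.Surjective f' := by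
    intro r
    obtain ⟨g, hg⟩ := hf (r : H)
    exact ⟨⟨g, show f g ∈ R by rw [hg]; exact r.2⟩, Subtype.ext hg⟩
  have htop : (S.mapSurjective hf' : Subgroup R) = ⊤ :=
    ((S.mapSurjective hf').3 (hR.to_subgroup ⊤) le_top).symm
  have himg : P.map f = R := by
    apply le_antisymm
    · rintro _ ⟨x, ⟨y, hy, rfl⟩, rfl⟩
      exact y.2
    · intro r hr
      have : (⟨r, hr⟩ : R) ∈ (S.mapSurjective hf' : Subgroup R) := by rw [htop]; trivial
      rw [Sylow.coe_mapSurjective, Subgroup.mem_map] at this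
      obtain ⟨y, hy, hy'⟩ := this
      exact ⟨y, ⟨y, hy, rfl⟩, congrArg Subtype.val hy'⟩
  have hP1 : P ≠ ⊥ := fun h0 => hne (by rw [← himg, h0, Subgroup.map_bot])
  -- Frattini: lift to a `p`-element normalizing `P`
  have lift : ∀ x ∈ Subgroup.normalizer (R : Set H), (∃ k : ℕ, x ^ p ^ k = 1) →
      ∃ g ∈ Subgroup.normalizer (P : Set G), (∃ k : ℕ, g ^ p ^ k = 1) ∧ f g = x := by
    intro x hx ⟨k, hk⟩
    obtain ⟨g, rfl⟩ := hf x
    set N : Subgroup G := Subgroup.normalizer ((R.comap f : Subgroup G) : Set G) with hN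
    have hgN : g ∈ N := Subgroup.le_normalizer_comap f hx
    set K : Subgroup N := (R.comap f).subgroupOf N with hK
    have : K.Normal := Subgroup.normal_subgroupOf_of_le_normalizer le_rfl
    obtain ⟨T⟩ : Nonempty (Sylow p K) := inferInstance
    let e : K ≃* (R.comap f : Subgroup G) := Subgroup.subgroupOfEquivOfLe Subgroup.le_normalizer
    let S' : Sylow p K := S.comapOfInjective e.toMonoidHom e.injective
      (by rw [MonoidHom.range_eq_top.2 e.surjective]; exact le_top)
    have hS' : ((S' : Subgroup K).map K.subtype).map N.subtype = P := by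
      rw [hP, Subgroup.map_map]
      apply le_antisymm
      · rintro _ ⟨y, hy, rfl⟩
        exact ⟨e y, hy, rfl⟩
      · rintro _ ⟨y, hy, rfl⟩
        refine ⟨e.symm y, ?_, rfl⟩
        show e (e.symm y) ∈ (S : Subgroup (R.comap f))
        rwa [MulEquiv.apply_symm_apply]
    have hsup := Sylow.normalizer_sup_eq_top (N := K) S'
    have hgtop : (⟨g, hgN⟩ : N) ∈ Subgroup.normalizer (((S' : Subgroup K).map K.subtype : Subgroup N) : Set N) ⊔ K := by
      rw [hsup]; trivial
    rw [Subgroup.mem_sup_of_normal_right] at hgtop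
    obtain ⟨n, hn, c, hc, hnc⟩ := hgtop
    have hnP : (n : G) ∈ Subgroup.normalizer (P : Set G) := by
      rw [← hS']
      exact Subgroup.le_normalizer_map N.subtype ⟨n, hn, rfl⟩
    have hfc : f (c : G) ∈ R := hc
    have hfn : f (n : G) = f g * (f (c : G))⁻¹ := by
      have h0 : (n : G) * (c : G) = g := congrArg Subtype.val hnc
      rw [← h0, map_mul, mul_inv_cancel_right]
    obtain ⟨r, hr, hrf⟩ : ∃ r ∈ P, f r = f (c : G) := by
      rw [← himg] at hfc
      obtain ⟨r, hr, hrf⟩ := hfc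
      exact ⟨r, hr, hrf⟩
    set m : G := (n : G) * r with hm
    have hmN : m ∈ Subgroup.normalizer (P : Set G) := mul_mem hnP (Subgroup.le_normalizer hr)
    have hfm : f m = f g := by rw [hm, map_mul, hfn, hrf, inv_mul_cancel_right]
    -- take the `p`-part
    obtain ⟨a, m', hm', hord⟩ := Nat.exists_eq_pow_mul_and_not_dvd (orderOf_pos m).ne' p
      (Fact.out : p.Prime).ne_one
    have hcop : m'.Coprime (p ^ k) :=
      Nat.Coprime.pow_right k ((Fact.out : p.Prime).coprime_iff_not_dvd.2 hm').symm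
    obtain ⟨u, hu⟩ : ∃ u : ℕ, (u * m') ≡ 1 [MOD p ^ k] := by
      rcases Nat.lt_or_ge 1 (p ^ k) with h1 | h1
      · obtain ⟨u, hu⟩ := Nat.exists_mul_mod_eq_one_of_coprime hcop h1
        exact ⟨u, by rw [mul_comm]; unfold Nat.ModEq; rw [hu.2, Nat.mod_eq_of_lt h1]⟩
      · exact ⟨0, by
          have : p ^ k = 1 := le_antisymm h1 (Nat.one_le_pow _ _ (Fact.out : p.Prime).pos)
          rw [this]; exact Nat.modEq_one⟩
    refine ⟨m ^ (u * m'), pow_mem hmN _, ⟨a, ?_⟩, ?_⟩
    · rw [← pow_mul, show u * m' * p ^ a = (p ^ a * m') * u by ring, pow_mul, ← hord,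
        pow_orderOf_eq_one, one_pow]
    · rw [map_pow, hfm]
      have : f g ^ (u * m') = f g ^ 1 :=
        pow_eq_pow_iff_modEq.2 (hu.of_dvd (orderOf_dvd_of_pow_eq_one hk))
      rw [this, pow_one]
  obtain ⟨a', ha', hap', rfl⟩ := lift a ha hap
  obtain ⟨b', hb', hbp', rfl⟩ := lift b hb hbp
  obtain ⟨k, hk⟩ := h P hPp hP1 a' ha' b' hb' hap' hbp'
  exact ⟨k, by rw [← map_mul, ← map_pow, hk, map_one]⟩

/-- `Qd(p)` is not locally closed. -/
theorem not_locallyClosed_qd {p : ℕ} [Fact p.Prime] : ¬ LocallyClosed p ↥(Cfsg.qd p) := by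
  intro h
  let U : Matrix.SpecialLinearGroup (Fin 2) (ZMod p) := ⟨!![1, 1; 0, 1], by simp [Matrix.det_fin_two]⟩
  let L : Matrix.SpecialLinearGroup (Fin 2) (ZMod p) := ⟨!![1, 0; 1, 1], by simp [Matrix.det_fin_two]⟩
  have hR : IsPGroup p (H60.qdTrans (p := p)) := by
    intro x
    refine ⟨1, Subtype.ext ?_⟩
    obtain ⟨⟨M, hM⟩, hx⟩ := x
    obtain ⟨a, b, c, d⟩ := H60.mem_qdTrans.1 hx
    obtain ⟨r0, r1, r2⟩ := H60.qd_row ⟨M, hM⟩
    simp only [H60.qdEntry] at a b c d r0 r1 r2
    have hN : (((M : Matrix (Fin 3) (Fin 3) (ZMod p))) - 1) * ((M : Matrix (Fin 3) (Fin 3) (ZMod p)) - 1) = 0 := by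
      ext i j
      fin_cases i <;> fin_cases j <;>
        simp [Matrix.mul_apply, Fin.sum_univ_three, Matrix.sub_apply, Matrix.one_apply, a, b, c, d, r0, r1, r2]
    apply Subtype.ext
    apply Subtype.ext
    simp only [SubgroupClass.coe_pow, OneMemClass.coe_one, pow_one, Matrix.SpecialLinearGroup.coe_pow,
      Matrix.SpecialLinearGroup.coe_one]
    have h1 : ((M : Matrix (Fin 3) (Fin 3) (ZMod p)) - 1) ^ p = 0 := by
      exact pow_eq_zero_of_le (Fact.out : p.Prime).two_le (by rw [pow_two]; exact hN)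
    rw [sub_pow_char_of_commute p (Commute.one_right _), one_pow, sub_eq_zero] at h1
    exact h1
  have hne : H60.qdTrans (p := p) ≠ ⊥ := by
    intro h0
    have h1 := (Subgroup.eq_bot_iff_forall _).1 h0 _ (H60.qdVec_mem 1 0)
    have h2 := congrArg (fun x : ↥(Cfsg.qd p) => H60.qdEntry x 0 2) h1
    simp [H60.qdEntry, H60.qdVec] at h2
  have hnorm : ∀ x : ↥(Cfsg.qd p), x ∈ Subgroup.normalizer (H60.qdTrans (p := p) : Set ↥(Cfsg.qd p)) := by
    intro x
    have := H60.qdTrans_normal (p := p)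
    rw [Subgroup.normalizer_eq_top]
    trivial
  have hpow : ∀ A : Matrix.SpecialLinearGroup (Fin 2) (ZMod p),
      ((A : Matrix (Fin 2) (Fin 2) (ZMod p)) - 1) * ((A : Matrix (Fin 2) (Fin 2) (ZMod p)) - 1) = 0 →
      ∃ k : ℕ, H60.qdIncl A ^ p ^ k = 1 := by
    intro A hA
    refine ⟨1, ?_⟩
    rw [← map_pow, pow_one]
    have h1 : ((A : Matrix (Fin 2) (Fin 2) (ZMod p)) - 1) ^ p = 0 := by
      exact pow_eq_zero_of_le (Fact.out : p.Prime).two_le (by rw [pow_two]; exact hA)
    rw [sub_pow_char_of_commute p (Commute.one_right _), one_pow, sub_eq_zero] at h1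
    rw [show A ^ p = 1 from Subtype.ext (by simpa using h1), map_one]
  obtain ⟨k, hk⟩ := h _ hR hne (H60.qdIncl U) (hnorm _) (H60.qdIncl L) (hnorm _)
    (hpow U (by ext i j; fin_cases i <;> fin_cases j <;> simp [U, Matrix.mul_apply, Fin.sum_univ_two]))
    (hpow L (by ext i j; fin_cases i <;> fin_cases j <;> simp [L, Matrix.mul_apply, Fin.sum_univ_two]))
  have hk' := congrArg H60.qdProj hk
  rw [map_one, map_pow, map_mul, H60.qdProj_qdIncl, H60.qdProj_qdIncl] at hk'
  have hM := congrArg (fun A : Matrix.SpecialLinearGroup (Fin 2) (ZMod p) =>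
    (A : Matrix (Fin 2) (Fin 2) (ZMod p))) hk'
  simp only [Matrix.SpecialLinearGroup.coe_pow, Matrix.SpecialLinearGroup.coe_one,
    Matrix.SpecialLinearGroup.coe_mul] at hM
  have hnil : IsNilpotent ((U : Matrix (Fin 2) (Fin 2) (ZMod p)) * (L : Matrix (Fin 2) (Fin 2) (ZMod p)) - 1) :=
    ⟨p ^ k, by rw [sub_pow_char_pow_of_commute _ _ (Commute.one_right _), one_pow, hM, sub_self]⟩
  have htr := (Matrix.isNilpotent_trace_of_isNilpotent hnil).eq_zero
  simp [U, L, Matrix.trace_fin_two] at htr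
  exact one_ne_zero (α := ZMod p) (by linear_combination htr)

end Cfsg.Agent.H58
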